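import Mathlib
import Cfsg.Agent.S5076
import Cfsg.Agent.S5077
import Cfsg.Agent.Core.SylowOf
import Cfsg.Agent.Core.Coprime
import Cfsg.Agent.PGrp.Basic

/-!
# FSim/Crit: a criterion for the simplicity of the fusion system of a group
-/

set_option autoImplicit false

namespace Cfsg.Agent.FSim

open Subgroup Cfsg.Agent.Core
open scoped Pointwise

variable {G : Type*} [Group G] {p : ℕ}

/-- the subgroup generated by the `p`-elements of `K` -/
def PE (p : ℕ) (K : Subgroup G) : Subgroup G := closure {x | x ∈ K ∧ ∃ k, x ^ p ^ k = 1}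

theorem mem_PE {K : Subgroup G} {x : G} (h : x ∈ K) (h' : ∃ k, x ^ p ^ k = 1) : x ∈ PE p K := subset_closure ⟨h, h'⟩

theorem PE_le (K : Subgroup G) : PE p K ≤ K := (closure_le _).mpr fun _ h => h.1

theorem PE_mono {K L : Subgroup G} (h : K ≤ L) : PE p K ≤ PE p L := closure_mono fun _ hx => ⟨h hx.1, hx.2⟩

theorem pow_of_mem {R : Subgroup G} (h : IsPGroup p R) {x : G} (hx : x ∈ R) : ∃ k, x ^ p ^ k = 1 :=
  (h ⟨x, hx⟩).imp fun _ e => congrArg Subtype.val e

theorem le_PE {K R : Subgroup G} (h : IsPGroup p R) (hR : R ≤ K) : R ≤ PE p K := fun _ hx =>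
  mem_PE (hR hx) (pow_of_mem h hx)

/-- every `p`-element centralising `P` lies in `P` -/
def Cen (p : ℕ) (P : Subgroup G) : Prop := ∀ x ∈ centralizer (P : Set G), (∃ k, x ^ p ^ k = 1) → x ∈ P

/-- the elements of `N(S)` seen in some `O^{p'}(N(P))`, with `P` centric -/
def Good (p : ℕ) (S : Subgroup G) : Subgroup G :=
  closure {g | g ∈ normalizer (S : Set G) ∧ ∃ P ≤ S, Cen p P ∧ g ∈ PE p (normalizer (P : Set G))} ⊔
    centralizer (S : Set G)

theorem mem_good {S P : Subgroup G} {g : G} (hg : g ∈ normalizer (S : Set G)) (hP : P ≤ S) (hC : Cen p P)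
    (h : g ∈ PE p (normalizer (P : Set G))) : g ∈ Good p S := mem_sup_left (subset_closure ⟨hg, P, hP, hC, h⟩)

theorem conj_mem {P : Subgroup G} {g x : G} (hg : g ∈ normalizer (P : Set G)) (hx : x ∈ P) : g * x * g⁻¹ ∈ P :=
  (mem_normalizer_iff.mp hg x).mp hx

theorem conj_mem' {P : Subgroup G} {g x : G} (hg : g ∈ normalizer (P : Set G)) (hx : x ∈ P) : g⁻¹ * x * g ∈ P := by
  simpa using conj_mem (inv_mem hg) hx

theorem exists_conj_mem [Finite G] [Fact p.Prime] {S K R : Subgroup G} (h : IsSylowOf p S K) (hR : IsPGroup p R)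
    (hK : R ≤ K) : ∃ k ∈ K, ∀ x ∈ R, k * x * k⁻¹ ∈ S :=
  (h.exists_conj_le hR hK).imp fun _ hk => ⟨hk.1, fun _ hx => hk.2 (smul_mem_pointwise_smul _ _ _ hx)⟩

theorem isPGroup_zpowers {x : G} (h : ∃ k, x ^ p ^ k = 1) : IsPGroup p (zpowers x) := by
  rintro ⟨_, i, rfl⟩
  exact h.imp fun k e => Subtype.ext (by
    change (x ^ i) ^ p ^ k = 1
    rw [← zpow_natCast, ← zpow_mul, mul_comm, zpow_mul, zpow_natCast, e, one_zpow])

theorem cen_of_normal [Finite G] [Fact p.Prime] (S : Sylow p G) {P : Subgroup G}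
    (hn : (S : Subgroup G) ≤ normalizer (P : Set G)) (hC : ∀ x ∈ (S : Subgroup G), x ∈ centralizer (P : Set G) → x ∈ P) :
    Cen p P := fun x hx hp => by
  obtain ⟨k, hk, h⟩ := exists_conj_mem (isSylowOf_sylow_of_le S hn) (isPGroup_zpowers hp)
    (zpowers_le.mpr (centralizer_le_normalizer _ hx))
  have := conj_mem' hk (hC _ (h x (mem_zpowers x)) fun y hy => by
    have := congrArg (fun t => k * t * k⁻¹) (hx _ (conj_mem' hk hy))
    simpa [mul_assoc] using this)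
  simpa [mul_assoc] using this

theorem exists_split [Finite G] [hp : Fact p.Prime] (c : G) :
    ∃ a ∈ zpowers c, ∃ b ∈ zpowers c, c = a * b ∧ (∃ k, a ^ p ^ k = 1) ∧ ∃ m, p.Coprime m ∧ b ^ m = 1 := by
  obtain ⟨k, m, hm, e⟩ := Nat.exists_eq_pow_mul_and_not_dvd (orderOf_pos c).ne' p hp.out.ne_one
  have hc := (Nat.Prime.coprime_iff_not_dvd hp.out).mpr hm
  obtain ⟨i, j, h⟩ := Nat.isCoprime_iff_coprime.mpr (hc.pow_left k)
  have h1 : c ^ ((p ^ k : ℕ) * m : ℤ) = 1 := by rw [← Nat.cast_mul, zpow_natCast, ← e, pow_orderOf_eq_one]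
  refine ⟨_, zpow_mem_zpowers c (j * m), _, zpow_mem_zpowers c (i * (p ^ k : ℕ)), by
    rw [← zpow_add, add_comm, h, zpow_one], ⟨k, ?_⟩, m, hc, ?_⟩ <;> rw [← zpow_natCast, ← zpow_mul, mul_assoc]
  · rw [mul_comm, mul_comm (m : ℤ), zpow_mul, h1, one_zpow]
  · rw [mul_comm, zpow_mul, h1, one_zpow]

section
variable {S : Subgroup G} {E : FusionSystem S} {P Q : Subgroup G} {g k : G}

/-- conjugation by `g` on `P` is a map of `E` -/
def In (E : FusionSystem S) (P : Subgroup G) (g : G) : Prop := conjHom P g ∈ E.Hom P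

theorem In.of_eq {φ : P →* G} (h : φ ∈ E.Hom P) (e : ∀ x : P, φ x = g * x * g⁻¹) : In E P g := by
  rwa [In, ← (MonoidHom.ext e : φ = conjHom P g)]

theorem In.congr (h : In E P g) (e : ∀ x ∈ P, g * x * g⁻¹ = k * x * k⁻¹) : In E P k := In.of_eq h fun x => e x x.2

theorem In.mul (h : In E P g) (hQ : ∀ x ∈ P, g * x * g⁻¹ ∈ Q) (h' : In E Q k) : In E P (k * g) :=
  In.of_eq (E.comp_mem h h' fun x => hQ x x.2) fun x => by
    change k * (g * x * g⁻¹) * k⁻¹ = _
    group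

theorem In.mono (h : In E P g) (hQ : Q ≤ P) : In E Q g :=
  mul_one g ▸ In.mul (E.conj_mem (hQ.trans (E.le_of_mem h).1) S.one_mem) (fun x hx => by simpa using hQ hx) h

theorem In.inv (h : In E P g) (hQ : ∀ y ∈ Q, g⁻¹ * y * g ∈ P) : In E Q g⁻¹ := by
  obtain ⟨ψ, h1, h2⟩ := E.inv_mem h
  refine (In.of_eq h1 ?_).mono fun y hy => ⟨⟨_, hQ y hy⟩, by change g * (g⁻¹ * y * g) * g⁻¹ = y; group⟩
  rintro ⟨_, x, rfl⟩
  rw [h2]
  change _ = g⁻¹ * (g * x * g⁻¹) * g⁻¹⁻¹
  group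

/-- the elements of `N(P)` inducing a map of `E` -/
def aut (E : FusionSystem S) (hP : P ≤ S) : Subgroup G where
  carrier := {g | g ∈ normalizer (P : Set G) ∧ In E P g}
  mul_mem' ha hb := ⟨mul_mem ha.1 hb.1, hb.2.mul (fun _ => conj_mem hb.1) ha.2⟩
  one_mem' := ⟨one_mem _, E.conj_mem hP S.one_mem⟩
  inv_mem' ha := ⟨inv_mem ha.1, ha.2.inv fun _ => conj_mem' ha.1⟩

end

theorem In.extend [Finite G] [Fact p.Prime] {S : Sylow p G} {E : FusionSystem (S : Subgroup G)} (hE : E.IsSaturated p)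
    (hsub : E.IsSubsystemOf (groupFusionSystem (S : Subgroup G))) {g : G} (hg : g ∈ normalizer ((S : Subgroup G) : Set G))
    (P : Subgroup G) (hC : Cen p P) (hn : g ∈ normalizer (P : Set G)) (h : In E P g) : In E S g := by
  induction P using WellFoundedGT.induction with
  | ind P ih =>
  have hP := (E.le_of_mem h).1
  rcases hP.eq_or_lt with rfl | hlt
  · exact h
  have hrec := ((S5077.result p S.isPGroup' E).mp hE).2 P ⟨hP, by
    rintro _ ⟨φ, hφ, rfl⟩
    obtain ⟨-, -, k, hk⟩ := hsub P hφ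
    have h1 : ∀ y ∈ FusionSystem.centralizerIn (S : Subgroup G) φ.range,
        k⁻¹ * y * k ∈ FusionSystem.centralizerIn (S : Subgroup G) P := fun y hy => by
      have h2 : k⁻¹ * y * k ∈ centralizer (P : Set G) := fun x hx => by
        have := congrArg (fun t => k⁻¹ * t * k) (hy.2 _ ⟨⟨x, hx⟩, hk _⟩)
        simpa [mul_assoc] using this
      refine ⟨hP (hC _ h2 ((pow_of_mem S.isPGroup' hy.1).imp fun j e => ?_)), h2⟩
      have := conj_pow (i := p ^ j) (a := k⁻¹) (b := y)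
      rwa [inv_inv, e, mul_one, inv_mul_cancel] at this
    exact Nat.card_le_card_of_injective (fun y => ⟨_, h1 y y.2⟩) fun y z e =>
      Subtype.ext (mul_left_cancel (mul_right_cancel (congrArg Subtype.val e)))⟩
  obtain ⟨ψ, h1, h2⟩ := hrec.2 P _ h (le_antisymm (by rintro _ ⟨x, rfl⟩; exact conj_mem hn x.2) fun y hy =>
    ⟨⟨_, conj_mem' hn hy⟩, by change g * (g⁻¹ * y * g) * g⁻¹ = y; group⟩)
  obtain ⟨-, h3, k, hk⟩ := hsub _ h1
  have hlt' := lt_inf_normalizer_of_nilpotent S.isPGroup'.isNilpotent hlt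
  set Q := (S : Subgroup G) ⊓ normalizer (P : Set G)
  have hQ : Q ≤ FusionSystem.extender S P (conjHom P g) := fun y hy => subset_closure ⟨hy.1, hy.2, _, conj_mem hg hy.1,
    fun x _ => by change g * (y * x * y⁻¹) * g⁻¹ = _ * (g * x * g⁻¹) * _; group⟩
  have h4 : ∀ x ∈ P, k * x * k⁻¹ = g * x * g⁻¹ := fun x hx => (hk ⟨x, hQ (hlt'.le hx)⟩).symm.trans (h2 x hx _)
  have hc : k⁻¹ * g ∈ centralizer (P : Set G) := fun x hx => by
    calc _ = k⁻¹ * (k * x * k⁻¹) * g := by group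
      _ = _ := by rw [h4 x hx]; group
  have hk' : k ∈ normalizer (P : Set G) := by
    simpa using mul_mem hn (inv_mem (centralizer_le_normalizer _ hc))
  have hgQ : g ∈ normalizer (Q : Set G) := mem_normalizer_fintype fun y hy =>
    ⟨conj_mem hg hy.1, conj_mem (le_normalizer hn) hy.2⟩
  have hkQ : k ∈ normalizer (Q : Set G) := mem_normalizer_fintype fun y hy =>
    ⟨hk ⟨y, hQ hy⟩ ▸ h3 ⟨y, hQ hy⟩, conj_mem (le_normalizer hk') hy.2⟩
  obtain ⟨a, ha, b, hb, e, ha', m, hm, hb'⟩ := exists_split (p := p) (k⁻¹ * g)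
  have ha2 := hlt'.le (hC a (zpowers_le.mpr hc ha) ha')
  have hbP := zpowers_le.mpr hc hb
  have hbQ := zpowers_le.mpr (mul_mem (inv_mem hkQ) hgQ) hb
  refine ih Q hlt' (fun x hx hp => hlt'.le (hC x (fun y hy => hx y (hlt'.le hy)) hp)) hgQ
    ((In.mul (E.conj_mem inf_le_left ha2.1) (fun y hy => hQ (mul_mem (mul_mem ha2 hy) (inv_mem ha2)))
      (In.of_eq h1 hk)).congr fun y hy => ?_)
  have h5 : y⁻¹ * (b * y * b⁻¹) ∈ Q := mul_mem (inv_mem hy) (conj_mem hbQ hy)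
  obtain ⟨j, hj⟩ := pow_of_mem S.isPGroup' h5.1
  have h6 : y⁻¹ * (b * y * b⁻¹) ∈ P := hC _ (by
    rw [← mul_assoc, ← mul_assoc]
    refine mul_mem (fun x hx => ?_) (inv_mem hbP)
    have := congrArg (fun t => y⁻¹ * t * y) (hbP _ (conj_mem hy.2 hx))
    simpa [mul_assoc] using this) ⟨j, hj⟩
  generalize hz : y⁻¹ * (b * y * b⁻¹) = z at hj h6
  have h7 : ∀ n : ℕ, b ^ n * y * (b ^ n)⁻¹ = y * z ^ n := fun n => by
    induction n with
    | zero => simp
    | succ n ih =>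
      calc _ = b * (b ^ n * y * (b ^ n)⁻¹) * b⁻¹ := by group
        _ = (b * y * b⁻¹) * (b * z ^ n * b⁻¹) := by rw [ih]; group
        _ = _ := by rw [← hbP _ (pow_mem h6 n), pow_succ', mul_inv_cancel_right, ← mul_assoc y, ← hz, mul_inv_cancel_left]
  have h8 := h7 m
  rw [hb', one_mul, inv_one, mul_one, left_eq_mul] at h8
  have h9 : z = 1 := orderOf_eq_one_iff.mp (Nat.eq_one_of_dvd_coprimes (hm.pow_left j)
    (orderOf_dvd_of_pow_eq_one hj) (orderOf_dvd_of_pow_eq_one h8))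
  rw [h9, inv_mul_eq_one] at hz
  rw [show g = k * (a * b) by rw [← e]; group]
  conv_lhs => rw [hz]
  group

/-- the criterion -/
theorem simple_of [Finite G] [Fact p.Prime] (S : Sylow p G) (hS : (S : Subgroup G) ≠ ⊥)
    (hN : normalizer ((S : Subgroup G) : Set G) ≤ Good p S)
    (hT : ∀ T : Subgroup G, T ≤ S → T ≠ ⊥ →
      (∀ x ∈ T, ∀ g : G, g * x * g⁻¹ ∈ (S : Subgroup G) → g * x * g⁻¹ ∈ T) → (S : Subgroup G) ≤ T) :
    (groupFusionSystem (S : Subgroup G)).IsSimple p := by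
  refine ⟨S5076.result p S, hS, fun T E hE => ?_⟩
  obtain ⟨⟨hsat, -, hsub, ⟨hTS, hsc⟩, -, hfr⟩, -⟩ := hE
  by_cases hT0 : T = ⊥
  · exact Or.inl hT0
  obtain rfl : T = S := le_antisymm hTS (hT T hTS hT0 fun x hx g hg => by
    have h1 : zpowers x ≤ T := zpowers_le.2 hx
    refine hsc (zpowers x) h1 (conjHom _ g) ⟨h1.trans hTS, ?_, g, fun _ => rfl⟩ ⟨x, mem_zpowers x⟩
    rintro ⟨_, k, rfl⟩
    change g * x ^ k * g⁻¹ ∈ (S : Subgroup G)
    rw [← conj_zpow]
    exact zpow_mem hg k)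
  have hF : ∀ P ≤ (S : Subgroup G), ∀ g, (∀ x ∈ P, g * x * g⁻¹ ∈ (S : Subgroup G)) →
      ∃ a ∈ normalizer ((S : Subgroup G) : Set G), In E P (a⁻¹ * g) := fun P hP g hg => by
    obtain ⟨α, hα, φ₀, h0, e⟩ := hfr P hP (conjHom P g) ⟨hP, fun x => hg x x.2, g, fun _ => rfl⟩
    obtain ⟨a, ha, e'⟩ : ∃ a ∈ normalizer ((S : Subgroup G) : Set G), ∀ x : (S : Subgroup G), (α x : G) = a * x * a⁻¹ := by
      refine closure_induction (p := fun α _ => ∃ a ∈ normalizer ((S : Subgroup G) : Set G),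
        ∀ x : (S : Subgroup G), (α x : G) = a * x * a⁻¹) ?_ ⟨1, one_mem _, fun x => by simp⟩ ?_ ?_ hα
      · rintro β ⟨-, h2, g, hg⟩
        exact ⟨g, mem_normalizer_fintype fun x hx => hg ⟨x, hx⟩ ▸ h2 _, hg⟩
      · rintro β γ - - ⟨s, hs, e⟩ ⟨t, ht, e'⟩
        exact ⟨s * t, mul_mem hs ht, fun x => by rw [MulAut.mul_apply, e, e']; group⟩
      · rintro β - ⟨s, hs, e⟩
        refine ⟨s⁻¹, inv_mem hs, fun x => ?_⟩
        have := e (β⁻¹ x)
        rw [MulAut.apply_inv_self] at this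
        rw [this]; group
    refine ⟨a, ha, In.of_eq h0 fun x => ?_⟩
    have := (e x ((E.le_of_mem h0).2 x)).trans (e' _)
    change g * x * g⁻¹ = a * φ₀ x * a⁻¹ at this
    calc _ = a⁻¹ * (a * φ₀ x * a⁻¹) * a := by group
      _ = _ := by rw [← this]; group
  have hG : Good p (S : Subgroup G) ≤ aut E le_rfl := sup_le ((closure_le _).mpr (by
    rintro g ⟨hg, P, hP, hC, h⟩
    refine ⟨hg, In.extend hsat hsub hg P hC (PE_le _ h) ((closure_le (aut E hP)).mpr ?_ h).2⟩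
    rintro x ⟨hx, hx'⟩
    obtain ⟨k, -, hk⟩ := exists_conj_mem (isSylowOf_top S) (IsPGroup.to_sup_of_normal_left'
      (S.isPGroup'.to_le hP) (isPGroup_zpowers hx') (zpowers_le.mpr hx)) le_top
    obtain ⟨a, ha, h1⟩ := hF P hP k fun y hy => hk y (mem_sup_left hy)
    have h2 := conj_mem' ha (hk x (mem_sup_right (mem_zpowers x)))
    have h3 := (h1.mul (fun y hy => (E.le_of_mem h1).2 ⟨y, hy⟩) (E.conj_mem le_rfl h2)).mul (Q := P.map (MulAut.conj (a⁻¹ * k)).toMonoidHom)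
      (fun y hy => ⟨_, conj_mem hx hy, by simp [mul_assoc]⟩) (h1.inv (by rintro _ ⟨y, hy, rfl⟩; simpa [mul_assoc] using hy))
    exact ⟨hx, h3.congr fun y _ => by group⟩))
    fun g hg => ⟨centralizer_le_normalizer _ hg, In.congr (E.conj_mem le_rfl (one_mem _)) fun x hx => by
      rw [← hg x hx]; group⟩
  refine Or.inr ⟨rfl, fun P => Set.Subset.antisymm (hsub P) ?_⟩
  rintro φ ⟨hP, h1, g, hg⟩
  obtain ⟨a, ha, h2⟩ := hF P hP g fun x hx => hg ⟨x, hx⟩ ▸ h1 _
  have := h2.mul (fun x hx => (E.le_of_mem h2).2 ⟨x, hx⟩) (hG (hN ha)).2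
  rwa [mul_inv_cancel_left, In, ← (MonoidHom.ext hg : φ = conjHom P g)] at this

/-- the hypotheses of the criterion -/
def Crit (p : ℕ) (S : Subgroup G) : Prop := S ≠ ⊥ ∧ normalizer (S : Set G) ≤ Good p S ∧
  ∀ T : Subgroup G, T ≤ S → T ≠ ⊥ → (∀ x ∈ T, ∀ g : G, g * x * g⁻¹ ∈ S → g * x * g⁻¹ ∈ T) → S ≤ T

theorem pow_max {x : G} {j k : ℕ} (h : x ^ p ^ j = 1) (hk : j ≤ k) : x ^ p ^ k = 1 := by
  obtain ⟨i, rfl⟩ := Nat.exists_eq_add_of_le hk
  rw [pow_add, pow_mul, h, one_pow]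

theorem pow_conj {x : G} (h : ∃ k, x ^ p ^ k = 1) (g : G) : ∃ k, (g * x * g⁻¹) ^ p ^ k = 1 :=
  h.imp fun _ e => by rw [conj_pow, e, mul_one, mul_inv_cancel]

theorem Crit.map [Finite G] [hp : Fact p.Prime] {H : Type*} [Group H] {f : G →* H} (hf : Function.Surjective f)
    (hZ : f.ker ≤ center G) (hZ' : ∀ z ∈ f.ker, z ^ p = 1 → z = 1) {S : Subgroup G} (hS : IsPGroup p S)
    (h : Crit p S) : Crit p (S.map f) := by
  have h0 : ∀ k, ∀ z ∈ f.ker, z ^ p ^ k = 1 → z = 1 := fun k => by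
    induction k with
    | zero => exact fun z _ e => by simpa using e
    | succ k ih => exact fun z hz e => ih z hz (hZ' _ (pow_mem hz _) (by rw [← pow_mul, ← pow_succ, e]))
  have h1 : ∀ {u v : G}, (∃ k, u ^ p ^ k = 1) → (∃ k, v ^ p ^ k = 1) → f u = f v → u = v := by
    rintro u v ⟨j, hj⟩ ⟨k, hk⟩ e
    have hz : v⁻¹ * u ∈ f.ker := by rw [MonoidHom.mem_ker, map_mul, map_inv, e, inv_mul_cancel]
    have := Commute.mul_pow (mem_center_iff.mp (hZ hz) v) (p ^ max j k)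
    rw [mul_inv_cancel_left, pow_max hj (le_max_left j k), pow_max hk (le_max_right j k), one_mul] at this
    exact (inv_mul_eq_one.mp (h0 _ _ hz this.symm)).symm
  have h2 : ∀ {P : Subgroup G} {x : G}, P ≤ S → (∃ k, x ^ p ^ k = 1) → f x ∈ P.map f → x ∈ P :=
    fun hP hx ⟨y, hy, e⟩ => h1 (pow_of_mem hS (hP hy)) hx e ▸ hy
  refine ⟨fun e => h.1 (eq_bot_iff.mpr fun x hx => h2 bot_le (pow_of_mem hS hx)
    ((map_bot f).ge (e.le (mem_map_of_mem f hx)))), fun g hg => ?_, fun T hTS hT0 hT => ?_⟩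
  · obtain ⟨g, rfl⟩ := hf g
    refine (map_le_iff_le_comap.mp ?_ : Good p S ≤ (Good p (S.map f)).comap f) (h.2.1 (mem_normalizer_fintype fun x hx =>
      h2 le_rfl (pow_conj (pow_of_mem hS hx) g) (by simpa using conj_mem hg (mem_map_of_mem f hx))))
    rw [Good, Subgroup.map_sup]
    refine sup_le (map_le_iff_le_comap.mpr ((closure_le _).mpr ?_))
      ((map_centralizer_le_centralizer_image _ _).trans le_sup_right)
    rintro g ⟨hg, P, hP, hC, h⟩
    refine mem_good (le_normalizer_map f (mem_map_of_mem f hg)) (map_mono hP) (fun x hx ⟨k, hk⟩ => ?_)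
      (mem_comap.mp ((closure_le _).mpr ?_ h))
    · obtain ⟨x, rfl⟩ := hf x
      obtain ⟨a, -, b, ⟨i, rfl⟩, e, ha, m, hm, hb⟩ := exists_split (p := p) x
      have h3 : f (x ^ i) = 1 := orderOf_eq_one_iff.mp (Nat.eq_one_of_dvd_coprimes (hm.pow_left k)
        (orderOf_dvd_of_pow_eq_one (by rw [map_zpow, ← zpow_natCast, ← zpow_mul, mul_comm, zpow_mul, zpow_natCast, hk,
          one_zpow])) (orderOf_dvd_of_pow_eq_one (by rw [← map_pow]; exact hb ▸ map_one f)))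
      have h4 : f x = f a := by rw [e, map_mul, h3, mul_one]
      rw [h4] at hx ⊢
      refine mem_map_of_mem f (hC a (fun y hy => ?_) ha)
      have := h1 (pow_conj (pow_of_mem hS (hP hy)) a) (pow_of_mem hS (hP hy))
        (by rw [map_mul, map_mul, ← hx _ (mem_map_of_mem f hy), map_inv, mul_inv_cancel_right])
      rw [← mul_inv_eq_iff_eq_mul.mp this]
    · exact fun x hx => mem_PE (le_normalizer_map f (mem_map_of_mem f hx.1))
        (hx.2.imp fun k e => by rw [← map_pow, e, map_one])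
  · refine map_le_iff_le_comap.mpr ((h.2.2 (T.comap f ⊓ S) inf_le_right (fun e => hT0 (eq_bot_iff.mpr fun y hy => ?_))
      fun x hx g hg => ⟨?_, hg⟩).trans inf_le_left)
    · obtain ⟨x, hx, rfl⟩ := hTS hy
      rw [mem_bot.mp (e.le ⟨hy, hx⟩), map_one]
      exact one_mem _
    · simpa using hT _ hx.1 (f g) (by simpa using mem_map_of_mem f hg)

theorem simple_of_map [Finite G] [hp : Fact p.Prime] {H : Type*} [Group H] {f : G →* H} (hf : Function.Surjective f)
    (hZ : f.ker ≤ center G) (hZ' : ∀ z ∈ f.ker, z ^ p = 1 → z = 1) (S : Sylow p G) (h : Crit p (S : Subgroup G))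
    (S' : Sylow p H) : (groupFusionSystem (S' : Subgroup H)).IsSimple p := by
  haveI := Finite.of_surjective f hf
  obtain ⟨k, rfl⟩ := MulAction.exists_smul_eq H (S.mapSurjective hf) S'
  have := Crit.map (f := (MulAut.conj k).toMonoidHom.comp f) ((MulAut.conj k).surjective.comp hf)
    (fun z hz => hZ ((MulAut.conj k).injective (hz.trans (map_one _).symm)))
    (fun z hz => hZ' z ((MulAut.conj k).injective (hz.trans (map_one _).symm))) S.isPGroup' h
  rw [← map_map] at this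
  exact simple_of _ this.1 this.2.1 this.2.2

/-- `N(S)` through two centric subgroups -/
theorem le_good [Finite G] [Fact p.Prime] (S : Sylow p G) {P Q M : Subgroup G} (hP : P ≤ S) (hP' : Cen p P)
    (hQ : Q ≤ S) (hQ' : Cen p Q) (hQn : (S : Subgroup G) ≤ normalizer (Q : Set G)) (hS : (S : Subgroup G) ≤ M)
    (hM : M ≤ PE p (normalizer (P : Set G))) (h : ∀ g ∈ normalizer ((S : Subgroup G) : Set G),
      ∃ k ∈ PE p (normalizer (Q : Set G)), k ∈ normalizer (M : Set G) ∧ k⁻¹ * g ∈ M) :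
    normalizer ((S : Subgroup G) : Set G) ≤ Good p S := fun g hg => by
  obtain ⟨k, h1, h2, h3⟩ := h g hg
  obtain ⟨a, ha, h4⟩ := (isSylowOf_sylow_of_le S (le_inf (le_PE S.isPGroup' hQn) hS)).exists_mul_normalizer (g := k)
    (mem_normalizer_fintype fun x hx => ⟨conj_mem (le_normalizer h1) hx.1, conj_mem h2 hx.2⟩)
  have := mul_mem (mem_good h4 hQ hQ' (mul_mem (inv_mem ha.1) h1)) (mem_good (mul_mem (inv_mem h4) hg) hP hP'
    (hM (by simpa [mul_assoc] using mul_mem (conj_mem' h2 ha.2) h3)))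
  rwa [mul_inv_cancel_left] at this

/-- generation of a Sylow subgroup along a descending family of subgroups -/
theorem le_of_steps [Finite G] [Fact p.Prime] {ι : Type*} (r : ι → ℕ) (L : ι → Subgroup G) {X : Set G}
    (h : ∀ i R, R ≤ L i → IsPGroup p R → R ≠ ⊥ → ∃ j, ∃ Q ≤ L i, r j < r i ∧ L j ≤ L i ∧ IsPGroup p Q ∧ (Q : Set G) ⊆ X ∧
      R ≤ normalizer (Q : Set G) ∧ L j ≤ normalizer (Q : Set G) ∧ ∀ g ∈ R, ∃ q ∈ Q, q⁻¹ * g ∈ L j)
    {T : Subgroup G} (i : ι) {R : Subgroup G} (hR : IsSylowOf p R (L i)) (hT : ∀ x ∈ R, x ∈ X → x ∈ T) : R ≤ T := by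
  induction hn : r i using Nat.strong_induction_on generalizing i R with
  | _ n ih =>
  by_cases h0 : R = ⊥
  · exact h0 ▸ bot_le
  obtain ⟨j, Q, h1, h2, h3, h4, h5, h6, h7, h8⟩ := h i R hR.le hR.isPGroup h0
  have hQ := hR.le_of_le_normalizer h4 h1 h6
  have hd : ∀ g ∈ R, ∃ q ∈ Q, q⁻¹ * g ∈ R ⊓ L j := fun g hg =>
    (h8 g hg).imp fun q hq => ⟨hq.1, R.mul_mem (R.inv_mem (hQ hq.1)) hg, hq.2⟩
  have := ih _ (hn ▸ h2) j (R := R ⊓ L j) (isSylowOf_of_maximal (hR.isPGroup.to_le inf_le_left) inf_le_right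
    fun U hU hUL hU' => le_inf (le_sup_right.trans (hR.eq_of_le (h4.to_sup_of_normal_left' hU (hUL.trans h7))
      (sup_le h1 (hUL.trans h3)) fun g hg => ?_).ge) hUL) (fun x hx => hT x hx.1) rfl
  · intro g hg
    obtain ⟨q, hq, e⟩ := hd g hg
    simpa using mul_mem (hT q (hQ hq) (h5 hq)) (this e)
  · obtain ⟨q, hq, e⟩ := hd g hg
    simpa using mul_mem (mem_sup_left hq) (mem_sup_right (hU' e))

theorem exists_central [Finite G] [Fact p.Prime] {S T : Subgroup G} (hS : IsPGroup p S) (hT : T ≤ S) (h0 : T ≠ ⊥)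
    (h : ∀ x ∈ T, ∀ g : G, g * x * g⁻¹ ∈ S → g * x * g⁻¹ ∈ T) : ∃ z ∈ T, z ≠ 1 ∧ z ^ p = 1 ∧ ∀ s ∈ S, s * z = z * s := by
  haveI : (T.subgroupOf S).Normal := ⟨fun x hx g => h x hx g (mul_mem (mul_mem g.2 x.2) (inv_mem g.2))⟩
  obtain ⟨w, hw, hw', ho⟩ := PGrp.exists_mem_center_orderOf_eq hS (T.subgroupOf S) (by
    rw [Ne, subgroupOf_eq_bot]; exact fun H => h0 (H.eq_bot_of_le hT))
  rw [← orderOf_coe] at ho
  exact ⟨w, hw, fun e => (Fact.out : p.Prime).one_lt.ne (by rw [← ho, e, orderOf_one]), ho ▸ pow_orderOf_eq_one _,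
    fun s hs => congrArg Subtype.val (mem_center_iff.1 hw' ⟨s, hs⟩)⟩

theorem self_le_good [Finite G] [Fact p.Prime] (S : Sylow p G) : (S : Subgroup G) ≤ Good p S := fun _ hg =>
  mem_good (le_normalizer hg) le_rfl (cen_of_normal S le_normalizer fun _ h _ => h) (le_PE S.isPGroup' le_normalizer hg)

/-- the criterion for a model `H` of the Sylow subgroup -/
theorem simple_of_hom [Finite G] [hp : Fact p.Prime] {H G' : Type*} [Group H] [Group G'] {φ : H →* G}
    (hφ : Function.Injective φ) {k m : ℕ} (hH : Nat.card H = p ^ (k + 1)) (hG : Nat.card G = p ^ (k + 1) * m)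
    (hm : ¬ p ∣ m) (hN : ∀ S : Sylow p G, S = φ.range → normalizer ((S : Subgroup G) : Set G) ≤ Good p S) {z : H}
    (hZ : ∀ x : H, (∀ s, s * x = x * s) → x = 1 ∨ x = z)
    (hT : ∀ T : Subgroup H, z ∈ T → (∀ x ∈ T, ∀ y g, g * φ x * g⁻¹ = φ y → y ∈ T) → ⊤ ≤ T) (e : G ≃* G')
    (S' : Sylow p G') : (groupFusionSystem (S' : Subgroup G')).IsSimple p := by
  have h1 : Nat.card φ.range = p ^ (k + 1) := (Nat.card_congr (MonoidHom.ofInjective hφ).toEquiv).symm.trans hH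
  have hc : Nat.card φ.range = p ^ (Nat.card G).factorization p := by
    rw [h1, hG, Nat.factorization_mul (pow_ne_zero _ hp.out.ne_zero) (by rintro rfl; exact hm (dvd_zero p))]
    simp [hp.out.factorization, Nat.factorization_eq_zero_of_not_dvd hm]
  have h0 : ∀ z ∈ e.toMonoidHom.ker, z = 1 := fun z hz => e.injective (hz.trans (map_one e).symm)
  refine simple_of_map e.surjective (fun z hz => h0 z hz ▸ one_mem _) (fun z hz _ => h0 z hz) (Sylow.ofCard _ hc)
    ⟨fun h => ?_, hN _ rfl, fun T h2 h3 h4 => ?_⟩ S'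
  · rw [show φ.range = ⊥ from h, card_bot] at h1
    exact (Nat.one_lt_pow (Nat.succ_ne_zero k) hp.out.one_lt).ne h1
  obtain ⟨_, h5, h6, -, h7⟩ := exists_central (Sylow.ofCard _ hc).isPGroup' h2 h3 h4
  obtain ⟨x, rfl⟩ := h2 h5
  obtain rfl := (hZ x fun s => hφ (by rw [map_mul, map_mul, h7 _ ⟨s, rfl⟩])).resolve_left fun h => h6 (by rw [h, map_one])
  rintro _ ⟨y, rfl⟩
  exact hT (T.comap φ) h5 (fun x hx y g h => by simpa [h] using h4 _ hx g (h ▸ ⟨y, rfl⟩)) trivial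

/-- an element stabilising a chain from `S` to its Frattini subgroup -/
theorem mem_good_of_chain [Finite G] [hp : Fact p.Prime] (S : Sylow p G) {c : G} (K : ℕ → Subgroup G) (n : ℕ)
    (h0 : K 0 = S) (hn : K n ≤ (frattini S).map (S : Subgroup G).subtype) (hK : ∀ i, K (i + 1) ≤ K i)
    (hc : ∀ i, c ∈ normalizer (K i : Set G)) (h : ∀ i < n, ∀ x ∈ K i, x⁻¹ * (c * x * c⁻¹) ∈ K (i + 1)) :
    c ∈ Good p (S : Subgroup G) := by
  obtain ⟨a, ha, b, hb, e, ha', m, hm, hb'⟩ := exists_split (p := p) c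
  have hS : ∀ i, K i ≤ S := fun i => h0 ▸ antitone_nat_of_succ_le hK (Nat.zero_le i)
  have h1 : ∀ i ≤ n, (S : Subgroup G) ≤ K i ⊔ (S : Subgroup G) ⊓ centralizer (zpowers b : Set G) := fun i hi => by
    induction i with
    | zero => exact h0 ▸ le_sup_left
    | succ i ih =>
      obtain ⟨j, hj⟩ := IsPGroup.iff_card.mp (S.isPGroup'.to_le (hS (i + 1)))
      refine (ih (by omega)).trans (sup_le ((sup_centralizer_eq_of_commutator_le (zpowers b) _ _ (hK i)
        (zpowers_le.mpr (zpowers_le.mpr (hc _) hb)) (by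
          rw [hj, Nat.card_zpowers]
          exact ((hm.symm.of_dvd_left (orderOf_dvd_of_pow_eq_one hb')).pow_right j)) (Or.inl inferInstance)
        ((commutator_mono le_rfl (zpowers_le.mpr hb)).trans (commutator_le.mpr fun x hx g hg => ?_))).ge.trans
        (sup_le_sup_left (inf_le_inf_right _ (hS i)) _)) le_sup_right)
      have : ∀ g ∈ zpowers c, ∀ x ∈ K i, x⁻¹ * (g * x * g⁻¹) ∈ K (i + 1) := fun g hg => by
        obtain ⟨l, rfl⟩ := (mem_powers_iff_mem_zpowers.mpr hg : g ∈ Submonoid.powers c)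
        induction l with
        | zero => simp
        | succ l ih' =>
          intro x hx
          have := mul_mem (h i hi x hx) (conj_mem (hc _) (ih' (npow_mem_zpowers _ _) x hx))
          simpa [pow_succ', mul_assoc] using this
      simpa [commutatorElement_def, mul_assoc] using this g hg _ (inv_mem hx)
  have h2 : ((S : Subgroup G) ⊓ centralizer (zpowers b : Set G)).subgroupOf S = ⊤ := frattini_nongenerating (by
    rw [sup_comm, ← map_subtype_inj, Subgroup.map_sup, subgroupOf_map_subtype, inf_eq_left.mpr inf_le_left,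
      ← MonoidHom.range_eq_map, range_subtype]
    exact le_antisymm (sup_le (map_subtype_le _) inf_le_left) ((h1 n le_rfl).trans (sup_le_sup_right hn _)))
  rw [e]
  exact mul_mem (self_le_good S ((isSylowOf_top S).le_of_le_normalizer' (isPGroup_zpowers ha') le_top
    (zpowers_le.mpr (zpowers_le.mpr (h0 ▸ hc 0) ha)) (mem_zpowers a)))
    (mem_sup_right fun x hx => ((subgroupOf_eq_top.mp h2 hx).2 b (mem_zpowers b)).symm)

end Cfsg.Agent.FSim
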