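import Cfsg.Agent.FSim.Crit
import Cfsg.Agent.FSim.TabJ
import Cfsg.Agent.PGrp.Frattini
import Cfsg.Agent.HJ.J3F

/-!
# FSim/Janko: the `2`-fusion systems of `J₂` and `J₃`
-/

set_option autoImplicit false
set_option maxRecDepth 100000
set_option synthInstance.maxSize 100000

namespace Cfsg.Agent.FSim

open Subgroup Cfsg.Agent.Comp Cfsg.Agent.Core Cfsg.Agent.HJ

variable {G : Type*} [Group G]

theorem norm_closure [Finite G] {s : Set G} {g : G} (h : ∀ y ∈ s, g * y * g⁻¹ ∈ closure s) :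
    g ∈ normalizer (closure s : Set G) := mem_normalizer_fintype fun _ hx =>
  (closure_le ((closure s).comap (MulAut.conj g).toMonoidHom)).mpr h hx

theorem exists_aut {H : Type*} [Group H] {φ : H →* G} (hφ : Function.Injective φ) {g : G}
    (hg : g ∈ normalizer (φ.range : Set G)) :
    ∃ α : H →* H, Function.Injective α ∧ ∀ u, φ (α u) = g * φ u * g⁻¹ := by
  choose α hα using fun u => conj_mem hg (⟨u, rfl⟩ : φ u ∈ φ.range)
  exact ⟨MonoidHom.mk' α fun a b => hφ (by simp [hα]), fun a b e => hφ (by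
    simpa [hα] using congrArg φ (show α a = α b from e)), hα⟩

theorem good_of_aut [Finite G] {p : ℕ} [Fact p.Prime] {H : Type*} [Group H] {φ : H →* G} (S : Sylow p G)
    (hS : S = φ.range) {c : G} {α : H → H} (hα : ∀ u, φ (α u) = c * φ u * c⁻¹) (K : ℕ → Subgroup H) (n : ℕ)
    (h0 : ∀ u, u ∈ K 0) (hn : ∀ u ∈ K n, ∃ v, u = v ^ p) (hK : ∀ i, K (i + 1) ≤ K i) (hc : ∀ i, ∀ u ∈ K i, α u ∈ K i)
    (h : ∀ i < n, ∀ x ∈ K i, ∀ y ∈ K i, x ∉ K (i + 1) → y ∉ K (i + 1) → x⁻¹ * y ∈ K (i + 1)) :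
    c ∈ Good p (S : Subgroup G) := by
  have h1 : ∀ i, c ∈ normalizer ((K i).map φ : Set G) := fun i => mem_normalizer_fintype (by
    rintro _ ⟨u, hu, rfl⟩; exact ⟨_, hc i u hu, hα u⟩)
  refine mem_good_of_chain S (fun i => (K i).map φ) n (by
    rw [hS, (eq_top_iff.mpr fun u _ => h0 u : K 0 = ⊤), MonoidHom.range_eq_map]) ?_ (fun i => map_mono (hK i)) h1 ?_
  · rintro _ ⟨u, hu, rfl⟩
    obtain ⟨v, rfl⟩ := hn u hu
    rw [map_pow]
    exact PGrp.pow_mem_map_frattini S.isPGroup' (hS ▸ ⟨v, rfl⟩)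
  rintro i hi _ ⟨u, hu, rfl⟩
  by_cases h2 : φ u ∈ (K (i + 1)).map φ
  · exact mul_mem (inv_mem h2) (conj_mem (h1 _) h2)
  · exact ⟨_, h i hi u hu _ (hc i u hu) (fun e => h2 ⟨u, e, rfl⟩)
      fun e => h2 ((mem_normalizer_iff.mp (h1 _) _).mpr ⟨_, e, hα u⟩), by simp [hα]⟩

def ss : El DS := ⟨nat_lit 1, by decide +kernel⟩
def sa : El DS := ⟨nat_lit 2, by decide +kernel⟩
def sb : El DS := ⟨nat_lit 3, by decide +kernel⟩
def sz : El DS := ⟨nat_lit 115, by decide +kernel⟩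
def se : El DS := ⟨nat_lit 119, by decide +kernel⟩

/-- a chain down to the Frattini subgroup -/
abbrev MS (i : ℕ) (u : El DS) : Prop := Nat.testBit ([0xffffffffffffffffffffffffffffffff,
  0xc9fb029414ab5f5a0207efd6a97e0a8d, 0x8889009010214e500203a45420620205].getD i 0x888000000014e500200000020620001) u.v

theorem s_l : El.l DS 0 = ss ∧ El.l DS 1 = sa ∧ El.l DS 2 = sb ∧ sz = sa * ss * sa * ss * sa * ss * sa * ss ∧
    se = sb * ss * sa * ss * sb * ss * sa * ss ∧ sz ≠ 1 ∧ se ≠ 1 ∧ se ≠ sz ∧ sz = se * ss * se * ss ∧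
    sa = sb * sa * ss * sb * ss * ss * (sb * ss * sb) ∧ MS 1 sa ∧ ¬ MS 3 sa ∧ sa * sa = 1 ∧ sb * sb = 1 := by decide +kernel

theorem s_sub : ∀ i < 4, MS i 1 ∧ ∀ u, MS i u → MS i u⁻¹ ∧ ∀ v, MS i v → MS i (u * v) := by decide +kernel

theorem s_idx : ∀ i < 3, ∀ u, (MS (i + 1) u → MS i u) ∧
    (MS i u → ∀ v, MS i v → ¬ MS (i + 1) u → ¬ MS (i + 1) v → MS (i + 1) (u⁻¹ * v)) := by decide +kernel

theorem s_one : ∀ u : El DS, MS 0 u ∧ (sz * u = u * sz) ∧ (u * se = se * u ∨ u * se = se * sz * u) ∧ MS 3 (u * u) ∧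
    (MS 3 u → ∃ v, u = v * v) ∧ (MS 1 u ↔ u * se = se * u) ∧ (u * (se * sz) = se * sz * u → MS 1 u) ∧
    (MS 2 u ↔ MS 3 u ∨ MS 3 (sa * u)) ∧ (MS 1 u → MS 3 u ∨ MS 3 (sa * u) ∨ MS 3 (sb * u) ∨ MS 3 (sa * sb * u)) ∧
    (ss * u = u * ss → sa * u = u * sa → sb * u = u * sb → u = 1 ∨ u = sz) ∧
    (se * u = u * se → ss * u = u * ss → sa * ss * sa * u = u * (sa * ss * sa) →
      sb * ss * sb * u = u * (sb * ss * sb) → u = 1 ∨ u = sz) ∧
    ((ss * u = u * ss ∨ ss * u = u * sz * ss) → (sa * u = u * sa ∨ sa * u = u * sz * sa) →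
      (sb * u = u * sb ∨ sb * u = u * sz * sb) → u = 1 ∨ u = sz ∨ u = se ∨ u = se * sz) := by decide +kernel

/-- the subgroups of the chain -/
def KS (i : ℕ) : Subgroup (El DS) where
  carrier := {u | MS (min i 3) u}
  mul_mem' hu hv := ((s_sub _ (by omega)).2 _ hu).2 _ hv
  one_mem' := (s_sub _ (by omega)).1
  inv_mem' hu := ((s_sub _ (by omega)).2 _ hu).1

theorem aut_KS {α : El DS →* El DS} (hα : Function.Injective α) :
    (∀ u, MS 1 u → MS 1 (α u)) ∧ ∀ u, MS 3 u → MS 3 (α u) := by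
  obtain ⟨-, -, -, -, -, z1, e1, ez, -⟩ := s_l
  have h1 : ∀ u, ∃ v, α v = u := Finite.surjective_of_injective hα
  have h2 : ∀ u, u * α sz = α sz * u := fun u => by
    obtain ⟨v, rfl⟩ := h1 u
    rw [← map_mul, ← (s_one v).2.1, map_mul]
  have hz : α sz = sz := ((s_one _).2.2.2.2.2.2.2.2.2.1 (h2 _) (h2 _) (h2 _)).resolve_left
    fun h => z1 (hα (h.trans (map_one α).symm))
  have h3 : ∀ u, u * α se = α se * u ∨ u * α se = α se * sz * u := fun u => by
    obtain ⟨v, rfl⟩ := h1 u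
    exact (s_one v).2.2.1.imp (fun h => by rw [← map_mul, h, map_mul]) fun h => by rw [← map_mul, h, map_mul, map_mul, hz]
  refine ⟨fun u hu => ?_, fun u hu => ?_⟩
  · have := congrArg α ((s_one u).2.2.2.2.2.1.mp hu)
    rw [map_mul, map_mul] at this
    rcases (s_one _).2.2.2.2.2.2.2.2.2.2.2 (h3 _) (h3 _) (h3 _) with h | h | h | h
    exacts [absurd (hα (h.trans (map_one α).symm)) e1, absurd (hα (h.trans hz.symm)) ez,
      (s_one _).2.2.2.2.2.1.mpr (h ▸ this), (s_one _).2.2.2.2.2.2.1 (h ▸ this)]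
  · obtain ⟨v, rfl⟩ := (s_one u).2.2.2.2.1 hu
    exact map_mul α v v ▸ (s_one _).2.2.2.1

theorem good_j [Finite G] {θ : El DS →* G} (hθ : Function.Injective θ) (S : Sylow 2 G) (hS : S = θ.range) {c : G}
    (hc : c ∈ normalizer (θ.range : Set G)) {u : El DS} (hu : MS 3 u) (e : c * θ sa * c⁻¹ = θ (sa * u)) :
    c ∈ Good 2 (S : Subgroup G) := by
  obtain ⟨α, h1, h2⟩ := exists_aut hθ hc
  obtain ⟨h3, h4⟩ := aut_KS h1
  have aa := s_l.2.2.2.2.2.2.2.2.2.2.2.2.1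
  refine good_of_aut S hS h2 KS 3 (fun u => (s_one u).1) (fun u hu => ((s_one u).2.2.2.2.1 hu).imp fun v e => sq v ▸ e)
    (fun i u hu => ?_) (fun i v hv => ?_) fun i hi x hx y hy => ?_
  · rcases i with _ | _ | _ | i
    exacts [(s_idx 0 (by omega) u).1 hu, (s_idx 1 (by omega) u).1 hu, (s_idx 2 (by omega) u).1 hu, by
      simpa [KS] using hu]
  · rcases i with _ | _ | _ | i
    · exact (s_one _).1
    · exact h3 v hv
    · rcases (s_one _).2.2.2.2.2.2.2.1.mp hv with h | h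
      · exact (s_idx 2 (by omega) _).1 (h4 v h)
      have := (KS 2).mul_mem ((KS 2).inv_mem (x := α sa) ((s_one _).2.2.2.2.2.2.2.1.mpr (Or.inr (by
        rwa [hθ ((h2 sa).trans e), ← mul_assoc, aa, one_mul])))) ((s_idx 2 (by omega) _).1 (h4 _ h))
      rwa [map_mul, inv_mul_cancel_left] at this
    · simpa [KS] using h4 v (by simpa [KS] using hv)
  · interval_cases i
    exacts [(s_idx 0 (by omega) x).2 hx y hy, (s_idx 1 (by omega) x).2 hx y hy, (s_idx 2 (by omega) x).2 hx y hy]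

/-- the third generator -/
noncomputable def nb : El DN := nx * na * nx⁻¹

theorem n_j : Sat (fun i => [ns, na, nb].getD i 1) RDS ∧ na * ns * na * ns * na * ns * na * ns = nz ∧
    nb * ns * na * ns * nb * ns * na * ns = ne ∧ nx * ns * nx⁻¹ = ns ∧ nx * nb * nx⁻¹ = na * nb ∧ nf * nz * nf⁻¹ = ne ∧
    nf * (na * ns * na * ns) * nf⁻¹ = nb * na * ns * nb * ns ∧ na * ne * na⁻¹ = ne ∧ na * ns * na⁻¹ = na * ns * na ∧
    na * (na * ns * na) * na⁻¹ = ns ∧ na * (nb * ns * nb) * na⁻¹ = ne * ns * (nb * ns * nb) * (na * ns * na) ∧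
    nx * ne * nx⁻¹ = ne ∧ nx * (na * ns * na) * nx⁻¹ = nb * ns * nb ∧
    nx * (nb * ns * nb) * nx⁻¹ = ne * ns * (nb * ns * nb) * (na * ns * na) ∧ nx * (na * nb) * nx⁻¹ = na := by
  unfold Sat; decide +kernel

theorem simple_j [Finite G] (ψ : El DN →* G) (hz : ψ nz ≠ 1) {t : G} (tt : t * t = 1)
    (tx : t * ψ nx * (t * ψ nx) = 1) (te : t * ψ ne * t⁻¹ = ψ ns) (tp : t * ψ (na * ns * na) * t⁻¹ = ψ (nb * ns * nb))
    {m : ℕ} (hG : Nat.card G = 2 ^ (6 + 1) * m) (hm : ¬ 2 ∣ m) {G' : Type*} [Group G'] (e : G ≃* G') (S' : Sylow 2 G') :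
    (groupFusionSystem (S' : Subgroup G')).IsSimple 2 := by
  obtain ⟨r0, rz, re, xs, xb, fz, fy, ae, as, ap, aq, xe, xp, xq, xr⟩ := n_j
  obtain ⟨l0, l1, l2, ez, ee, z1, -, -, zz, ea, a1, a3, aa, bb⟩ := s_l
  obtain ⟨ι, hι, -⟩ := El.exists_hom (D := DS) r0
  have i0 : ι ss = ns := l0 ▸ hι 0 (by decide)
  have i1 : ι sa = na := l1 ▸ hι 1 (by decide)
  have i2 : ι sb = nb := l2 ▸ hι 2 (by decide)
  have iz : ι sz = nz := by simp only [ez, map_mul, i0, i1, rz]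
  have ie : ι se = ne := by simp only [ee, map_mul, i0, i1, i2, re]
  have hZ : ∀ x : El DS, (∀ s, s * x = x * s) → x = 1 ∨ x = sz := fun x h =>
    (s_one x).2.2.2.2.2.2.2.2.2.1 (h _) (h _) (h _)
  have hgen : ∀ K : Subgroup (El DS), ss ∈ K → sa ∈ K → sb ∈ K → ⊤ ≤ K := fun K h0 h1 h2 => by
    rw [← El.gen_l, gen_le]
    intro i hi
    have : i < 3 := hi
    interval_cases i
    exacts [l0 ▸ h0, l1 ▸ h1, l2 ▸ h2]
  set θ := ψ.comp ι with hθ'
  have hθ : Function.Injective θ := (MonoidHom.ker_eq_bot_iff _).mp (by_contra fun h => by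
    obtain ⟨w, h1, h2, h3⟩ := PGrp.exists_mem_center_orderOf_eq (IsPGroup.of_card (p := 2) (n := 7) El.card_El) θ.ker h
    rcases hZ w (mem_center_iff.mp h2) with rfl | rfl
    · simp at h3
    · exact hz (iz ▸ h1))
  have cj : ∀ {n : El DN} {u v : El DS}, n * ι u * n⁻¹ = ι v → ψ n * θ u * (ψ n)⁻¹ = θ v := fun h => by
    simpa [hθ'] using congrArg ψ h
  refine simple_of_hom hθ El.card_El hG hm (fun S hS => ?_) hZ (fun T h1 h2 => ?_) e S'
  swap
  · have he : se ∈ T := h2 _ h1 _ _ (cj (by rw [iz, ie, fz]))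
    have hs : ss ∈ T := h2 _ he _ t (by simpa [hθ', ie, i0] using te)
    have hp : ∀ u, u * u = 1 → u * ss * u ∈ T := fun u h => h2 _ hs _ (θ u) (by
      rw [← map_inv, inv_eq_of_mul_eq_one_right h, map_mul, map_mul])
    have ha : sa ∈ T := ea ▸ mul_mem (mul_mem (h2 _ (mul_mem (hp _ aa) hs) _ _
      (cj (n := nf) (by simp only [map_mul, i0, i1, i2, fy]))) hs) (hp _ bb)
    exact hgen T hs ha (h2 _ ha _ _ (cj (by rw [i1, i2, nb])))
  have hx : ψ nx ∈ normalizer (θ.range : Set G) := mem_normalizer_fintype (by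
    rintro _ ⟨u, rfl⟩
    exact hgen (θ.range.comap ((MulAut.conj (ψ nx)).toMonoidHom.comp θ)) ⟨ss, (cj (by rw [i0, xs])).symm⟩
      ⟨sb, (cj (by rw [i1, i2, nb])).symm⟩ ⟨sa * sb, (cj (by rw [map_mul, i1, i2, xb])).symm⟩ (mem_top u))
  let Q := closure ({ψ ne, ψ ns, ψ (na * ns * na), ψ (nb * ns * nb)} : Set G)
  have q0 : ψ ne ∈ Q := subset_closure (by simp)
  have q1 : ψ ns ∈ Q := subset_closure (by simp)
  have q2 : ψ (na * ns * na) ∈ Q := subset_closure (by simp)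
  have q3 : ψ (nb * ns * nb) ∈ Q := subset_closure (by simp)
  have q4 : ψ (ne * ns * (nb * ns * nb) * (na * ns * na)) ∈ Q := by
    rw [map_mul, map_mul, map_mul]; exact mul_mem (mul_mem (mul_mem q0 q1) q3) q2
  have hQ : Q ≤ θ.range := (closure_le _).mpr (by
    rintro _ (rfl | rfl | rfl | rfl)
    exacts [⟨se, ie ▸ rfl⟩, ⟨ss, i0 ▸ rfl⟩, ⟨sa * ss * sa, by simp [hθ', i0, i1]⟩, ⟨sb * ss * sb, by simp [hθ', i0, i2]⟩])
  have na' : ψ na ∈ normalizer (Q : Set G) := norm_closure (by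
    rintro _ (rfl | rfl | rfl | rfl) <;> rw [← map_inv, ← map_mul, ← map_mul]
    exacts [ae.symm ▸ q0, as.symm ▸ q2, ap.symm ▸ q1, aq.symm ▸ q4])
  have nx' : ψ nx ∈ normalizer (Q : Set G) := norm_closure (by
    rintro _ (rfl | rfl | rfl | rfl) <;> rw [← map_inv, ← map_mul, ← map_mul]
    exacts [xe.symm ▸ q0, xs.symm ▸ q1, xp.symm ▸ q3, xq.symm ▸ q4])
  have nt : t ∈ normalizer (Q : Set G) := norm_closure (by
    have : ∀ u v : G, t * u * t⁻¹ = v → t * v * t⁻¹ = u := fun u v h => by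
      rw [← h, ← mul_assoc, ← mul_assoc, tt, one_mul, mul_assoc, ← mul_inv_rev, tt, inv_one, mul_one]
    rintro _ (rfl | rfl | rfl | rfl)
    exacts [te.symm ▸ q1, (this _ _ te).symm ▸ q0, tp.symm ▸ q3, (this _ _ tp).symm ▸ q2])
  have hSQ : (S : Subgroup G) ≤ normalizer (Q : Set G) := by
    rw [hS]
    rintro _ ⟨u, rfl⟩
    refine hgen ((normalizer (Q : Set G)).comap θ) (show ψ (ι ss) ∈ _ from i0 ▸ le_normalizer q1)
      (show ψ (ι sa) ∈ _ from i1 ▸ na') ?_ (mem_top u)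
    rw [mem_comap, MonoidHom.comp_apply, i2, nb, map_mul, map_mul, map_inv]
    exact mul_mem (mul_mem nx' na') (inv_mem nx')
  have gx : ψ nx ∈ Good 2 (S : Subgroup G) := by
    refine mem_good (hS ▸ hx) (hS ▸ hQ) (cen_of_normal S hSQ fun y hy hc => ?_) ?_
    · obtain ⟨u, rfl⟩ := hS.le hy
      rcases (s_one u).2.2.2.2.2.2.2.2.2.2.1 (hθ (by simpa [hθ', ie] using hc _ q0)) (hθ (by simpa [hθ', i0] using hc _ q1))
        (hθ (by simpa [hθ', i0, i1] using hc _ q2)) (hθ (by simpa [hθ', i0, i2] using hc _ q3)) with rfl | rfl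
      · exact map_one θ ▸ one_mem _
      · simpa only [zz, hθ', map_mul, MonoidHom.comp_apply, ie, i0] using mul_mem (mul_mem (mul_mem q0 q1) q0) q1
    · have := mul_mem (mem_PE (p := 2) nt ⟨1, (sq t).trans tt⟩) (mem_PE (mul_mem nt nx') ⟨1, (sq _).trans tx⟩)
      rwa [← mul_assoc, tt, one_mul] at this
  intro g hg
  rw [hS] at hg
  obtain ⟨α, h1, h2⟩ := exists_aut hθ hg
  obtain ⟨β, h3, h4⟩ := exists_aut hθ hx
  have b1 : β sa = sb := hθ ((h4 _).trans (cj (by rw [i1, i2, nb])))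
  have b2 : β (sa * sb) = sa := hθ ((h4 _).trans (cj (by rw [map_mul, i1, i2, xr])))
  have b3 : β sb = sa * sb := hθ ((h4 _).trans (cj (by rw [map_mul, i1, i2, xb])))
  have h5 : ∀ u, MS 3 (sa * sb * u) → ∀ g ∈ normalizer (θ.range : Set G), g * θ sa * g⁻¹ = θ u →
      g ∈ Good 2 (S : Subgroup G) := fun u hu g hg e => by
    refine (mul_mem_cancel_left gx).mp (good_j hθ S hS (mul_mem hx hg) ((aut_KS h3).2 _ hu) ?_)
    rw [map_mul β, b2, ← mul_assoc, aa, one_mul, h4, ← e]; group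
  rcases (s_one _).2.2.2.2.2.2.2.2.1 ((aut_KS h1).1 _ a1) with h | h | h | h
  · obtain ⟨γ, h6, h7⟩ := exists_aut hθ (inv_mem hg)
    have : γ (α sa) = sa := hθ (by rw [h7, h2]; group)
    exact absurd (this ▸ (aut_KS h6).2 _ h) a3
  · exact good_j hθ S hS hg h (by rw [← mul_assoc, aa, one_mul, h2])
  · refine (mul_mem_cancel_left gx).mp (h5 (β (α sa)) (b3 ▸ map_mul β _ _ ▸ (aut_KS h3).2 _ h) _ (mul_mem hx hg) ?_)
    rw [h4, h2]; group
  · exact h5 _ h g hg (h2 _).symm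

/-- the relations of the extra letter -/
def RJ : List (List ℕ) := [[8, 8], [8, 4, 8, 4], [8, 1, 8, 2], [8, 3, 2, 3, 8, 4, 3, 5, 2, 4, 3, 5]]

theorem simple_j' [Finite G] {c : ℕ → G} (h : Sat c RDN) (hz : c 0 ≠ 1) {t : G}
    (h' : Sat (fun i => if i < 8 then c i else t) RJ) {m : ℕ} (hG : Nat.card G = 2 ^ (6 + 1) * m) (hm : ¬ 2 ∣ m)
    {G' : Type*} [Group G'] (e : G ≃* G') (S' : Sylow 2 G') : (groupFusionSystem (S' : Subgroup G')).IsSimple 2 := by
  obtain ⟨ψ, hψ, -⟩ := El.exists_hom (D := DN) h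
  obtain ⟨l0, l1, l2, l3, l4, -⟩ := n_l
  have e0 := l0 ▸ hψ 0 (by decide)
  have e1 := l1 ▸ hψ 1 (by decide)
  have e2 := l2 ▸ hψ 2 (by decide)
  have e3 := l3 ▸ hψ 3 (by decide)
  have e4 := l4 ▸ hψ 4 (by decide)
  have e5 : c 5 = (c 4)⁻¹ := eq_inv_of_mul_eq_one_right (by simpa using h [4, 5] (by decide))
  have tt : t * t = 1 := by simpa using h' [8, 8] (by decide)
  have k : ∀ {u v : G}, v * v = 1 → t * u * t * v = 1 → t * u * t⁻¹ = v := fun h1 h2 => by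
    rw [inv_eq_of_mul_eq_one_right tt, eq_inv_of_mul_eq_one_left h2, inv_eq_of_mul_eq_one_right h1]
  refine simple_j ψ (e0 ▸ hz) tt (by simpa [e4, mul_assoc] using h' [8, 4, 8, 4] (by decide))
    (k (by rw [← map_mul, (by decide +kernel : ns * ns = 1), map_one])
      (by simpa [e1, e2, mul_assoc] using h' [8, 1, 8, 2] (by decide)))
    (k (by rw [← map_mul, (by decide +kernel : nb * ns * nb * (nb * ns * nb) = 1), map_one])
      (by simpa [e2, e3, e4, e5, nb, mul_assoc] using h' [8, 3, 2, 3, 8, 4, 3, 5, 2, 4, 3, 5] (by decide))) hG hm e S'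

theorem simple_j2 {G : Type*} [Group G] (e : G ≃* J2.G) (S : Sylow 2 G) :
    (groupFusionSystem (S : Subgroup G)).IsSimple 2 := by
  haveI := J2.card.1
  have h : Sat J2.s (RJ.map (subst (F2.take 8 ++ [[1, 2, 1, 3, 5, 0, 4, 5, 2, 3]]))) :=
    J2.rep.sat_of_inj J2.card.2.2 (by decide +kernel) (sat_of_relsP J2.ok (by norm_num)
      (show relsP (nat_lit 100) (nat_lit 7) (nat_lit 0) (nat_lit 7) J2.T _ = true by decide +kernel))
  refine simple_j' (c := fun i => ev J2.s (F2.getD i [])) (Sat.subst (satF2.mono fun w hw =>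
    List.mem_append_left _ (List.map_subset _ (List.subset_append_left _ _) hw))) (fun H => ?_)
    (t := ev J2.s [1, 2, 1, 3, 5, 0, 4, 5, 2, 3]) ((Sat.subst h).congr fun w hw i hi => ?_) (m := 4725) J2.card.2.1
    (by norm_num) e.symm S
  · refine ne_one_of_moves J2.ok (w := [5]) (p := 0) (by norm_num) (by decide +kernel) ?_
    rw [← J2.rep.ev_eq (by decide), show ev J2.s [5] = 1 from H, map_one]; rfl
  · have := (by decide : ∀ w ∈ RJ, ∀ i ∈ w, i < 9) w hw i hi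
    interval_cases i <;> rfl

theorem simple_j3 {G : Type*} [Group G] (e : G ≃* J3.G) (S : Sylow 2 G) :
    (groupFusionSystem (S : Subgroup G)).IsSimple 2 := by
  have h : Sat J3.s (RJ.map (subst (F3.take 8 ++ [[4, 1]]))) :=
    J3.rep.sat_of_inj J3.card.2.2 (by decide +kernel) (sat_of_relsP J3.ok (by norm_num)
      (show relsP (nat_lit 6156) (nat_lit 13) (nat_lit 0) (nat_lit 13) J3.T _ = true by decide +kernel))
  refine simple_j' (c := σ3) (Sat.subst (satF3.mono fun w hw => List.mem_append_left _ (List.mem_append_left _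
    (List.map_subset _ (List.Subset.trans (List.subset_append_left _ _) (List.subset_append_left _ _)) hw)))) (fun H => ?_)
    (t := ev J3.s [4, 1]) ((Sat.subst h).congr fun w hw i hi => ?_) (m := 392445) J3.card.2.1
    (by norm_num) e.symm S
  · exact ne_one_J3 (w := [0]) (p := 3) (by decide) (by norm_num) (by decide +kernel)
      (by rw [show ev J3.s [0] = 1 from H, J3.phi.map_one]; rfl)
  · have := (by decide : ∀ w ∈ RJ, ∀ i ∈ w, i < 9) w hw i hi
    interval_cases i <;> rfl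

end Cfsg.Agent.FSim
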